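import Groth.Agent.QuotLib.Props
import Groth.Agent.QuotLib.Reynolds
import Groth.Agent.S18889
import Groth.Agent.FlatLocus.FibreCrit

/-! Quotients by finite groups of invertible order: flatness, finite presentation, open maps. -/

set_option autoImplicit false
set_option backward.isDefEq.respectTransparency false
set_option backward.isDefEq.respectTransparency.types false
universe u
open CategoryTheory CategoryTheory.Limits AlgebraicGeometry Opposite TopologicalSpace

noncomputable section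

namespace Groth.Agent.CurvQuotLib

open QuotLib

variable {X Y S : Scheme.{u}} {G : Type u} [Group G] [Finite G] {ρ : G →* Aut X} {p : X ⟶ Y}

theorem isOpenMap (hp : SGA1.IsQuot ρ p) : IsOpenMap p.base := by
  intro U hU
  rw [← (QuotLib.isQuotientMap hp).isOpen_preimage]
  have e : p.base ⁻¹' (p.base '' U) = ⋃ g : G, (ρ g).hom.base ⁻¹' U := by
    ext x
    simp only [Set.mem_preimage, Set.mem_image, Set.mem_iUnion]
    constructor
    · rintro ⟨y, hy, e⟩
      obtain ⟨g, hg⟩ := exists_eq_of_base_eq hp e.symm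
      exact ⟨g, by rw [hg]; exact hy⟩
    · rintro ⟨g, hg⟩
      exact ⟨_, hg, base_apply_inv hp g x⟩
  rw [e]
  exact isOpen_iUnion fun g => hU.preimage (ρ g).hom.continuous

theorem algebra_retract {B A : Type u} [CommRing B] [CommRing A] [Algebra B A] [MulSemiringAction G A]
    [SMulCommClass G B A] [Algebra.IsInvariant B A G] (hinj : Function.Injective (algebraMap B A))
    (hn : IsUnit ((Nat.card G : ℕ) : B)) : ∃ r : A →ₗ[B] B, r ∘ₗ Algebra.linearMap B A = LinearMap.id := by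
  classical
  haveI := Fintype.ofFinite G
  obtain ⟨c, hc⟩ := hn.exists_left_inv
  have hsum : ∀ a : A, ∃ b : B, algebraMap B A b = ∑ g : G, g • a := fun a =>
    Algebra.IsInvariant.isInvariant (A := B) (G := G) _ fun h => by
      rw [Finset.smul_sum]
      simp only [smul_smul]
      exact Fintype.sum_equiv (Equiv.mulLeft h) _ _ fun g => rfl
  choose w hw using hsum
  refine ⟨{ toFun := fun a => c * w a, map_add' := fun a a' => hinj ?_, map_smul' := fun b a => hinj ?_ }, ?_⟩
  · simp only [map_mul, map_add, hw, smul_add, Finset.sum_add_distrib, mul_add]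
  · simp only [map_mul, hw, RingHom.id_apply, smul_eq_mul, smul_comm _ b, ← Finset.smul_sum]
    rw [Algebra.smul_def]
    ring
  · refine LinearMap.ext fun b => hinj ?_
    show algebraMap B A (c * w (algebraMap B A b)) = algebraMap B A b
    rw [map_mul, hw, Finset.sum_congr rfl fun g _ => smul_algebraMap g b, Finset.sum_const, Finset.card_univ,
      ← Nat.card_eq_fintype_card, nsmul_eq_mul, ← map_natCast (algebraMap B A), ← mul_assoc, ← map_mul, hc,
      map_one, one_mul]

theorem flat (hp : SGA1.IsQuot ρ p) (q : Y ⟶ S) [Flat (p ≫ q)] (hn : IsUnit ((Nat.card G : ℕ) : Γ(S, ⊤))) :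
    Flat q := by
  haveI := hp.affine
  refine ⟨fun {W} hW {V} hV e => ?_⟩
  have h1 : ((p ≫ q).appLE W (p ⁻¹ᵁ V) (fun x hx => e hx)).hom.Flat :=
    Flat.flat_appLE (p ≫ q) hW (hV.preimage p) _
  have hc : (p ≫ q).appLE W (p ⁻¹ᵁ V) (fun x hx => e hx) = q.appLE W V e ≫ p.app V := by
    rw [← Scheme.Hom.appLE_eq_app, Scheme.Hom.appLE_comp_appLE]
  rw [hc] at h1
  letI := (q.appLE W V e).hom.toAlgebra
  letI := QuotLib.algebra p V
  letI := (q.appLE W V e ≫ p.app V).hom.toAlgebra
  haveI : IsScalarTower Γ(S, W) Γ(Y, V) Γ(X, p ⁻¹ᵁ V) := IsScalarTower.of_algebraMap_eq fun _ => rfl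
  haveI hft : Module.Flat Γ(S, W) Γ(X, p ⁻¹ᵁ V) := h1
  letI := QuotLib.action hp V
  haveI := QuotLib.isInvariant hp V
  haveI := QuotLib.smulCommClass hp V
  have hu : IsUnit ((Nat.card G : ℕ) : Γ(Y, V)) := by
    have := (isUnit_natCast_app hn W).map (algebraMap Γ(S, W) Γ(Y, V))
    rwa [map_natCast] at this
  obtain ⟨r, hr⟩ := algebra_retract (G := G) (B := Γ(Y, V)) (A := Γ(X, p ⁻¹ᵁ V)) (hp.injective V) hu
  exact Module.Flat.of_retract ((Algebra.linearMap Γ(Y, V) Γ(X, p ⁻¹ᵁ V)).restrictScalars Γ(S, W))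
    (r.restrictScalars Γ(S, W)) (LinearMap.ext fun b => LinearMap.congr_fun hr b)

theorem locallyOfFinitePresentation (hp : SGA1.IsQuot ρ p) (q : Y ⟶ S) [LocallyOfFinitePresentation (p ≫ q)]
    (hn : IsUnit ((Nat.card G : ℕ) : Γ(S, ⊤))) : LocallyOfFinitePresentation q := by
  haveI := hp.affine
  refine ⟨fun {W} hW {V} hV e => ?_⟩
  have h1 : ((p ≫ q).appLE W (p ⁻¹ᵁ V) (fun x hx => e hx)).hom.FinitePresentation :=
    LocallyOfFinitePresentation.finitePresentation_appLE (p ≫ q) hW (hV.preimage p) _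
  have hc : (p ≫ q).appLE W (p ⁻¹ᵁ V) (fun x hx => e hx) = q.appLE W V e ≫ p.app V := by
    rw [← Scheme.Hom.appLE_eq_app, Scheme.Hom.appLE_comp_appLE]
  rw [hc] at h1
  letI := (q.appLE W V e).hom.toAlgebra
  letI := QuotLib.algebra p V
  letI := (q.appLE W V e ≫ p.app V).hom.toAlgebra
  haveI : IsScalarTower Γ(S, W) Γ(Y, V) Γ(X, p ⁻¹ᵁ V) := IsScalarTower.of_algebraMap_eq fun _ => rfl
  haveI hft : Algebra.FinitePresentation Γ(S, W) Γ(X, p ⁻¹ᵁ V) := h1
  letI := QuotLib.action hp V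
  haveI := QuotLib.isInvariant hp V
  haveI := QuotLib.smulCommClass hp V
  haveI : SMulCommClass G Γ(S, W) Γ(X, p ⁻¹ᵁ V) := ⟨fun g a x => by
    rw [← IsScalarTower.algebraMap_smul Γ(Y, V) a x, ← IsScalarTower.algebraMap_smul Γ(Y, V) a (g • x), smul_comm]⟩
  haveI := Groth.Agent.S18889.result (R := Γ(S, W)) (A := Γ(X, p ⁻¹ᵁ V)) (G := G) (isUnit_natCast_app hn W)
  let f : Γ(Y, V) →ₐ[Γ(S, W)] FixedPoints.subalgebra Γ(S, W) Γ(X, p ⁻¹ᵁ V) G :=
    AlgHom.codRestrict (IsScalarTower.toAlgHom Γ(S, W) Γ(Y, V) Γ(X, p ⁻¹ᵁ V)) _ fun b g => smul_algebraMap g b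
  have hf : Function.Bijective f := by
    refine ⟨fun a b h => hp.injective V (congrArg Subtype.val h), fun a => ?_⟩
    obtain ⟨b, hb⟩ := Algebra.IsInvariant.isInvariant (A := Γ(Y, V)) (G := G) a.1 a.2
    exact ⟨b, Subtype.ext hb⟩
  exact Algebra.FinitePresentation.equiv (AlgEquiv.ofBijective f hf).symm

end Groth.Agent.CurvQuotLib
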