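import Groth.Agent.CurvQuotLib.Field
import Groth.Agent.CurvQuotLib.Props
import Groth.Agent.CurveLib.GlobalFun
import Groth.Agent.AlterN1.Basic
import Groth.Agent.S6557
import Groth.Agent.GenSubLib.Isogeny
import Groth.Agent.FibreComp.DimSpace
import Groth.Agent.FinBirLib.Smooth
import Groth.Agent.GeomRedPtLib.RegSep

/-! Quotients of smooth proper curves by finite groups. -/

set_option autoImplicit false
set_option backward.isDefEq.respectTransparency false
set_option backward.isDefEq.respectTransparency.types false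
universe u
open CategoryTheory CategoryTheory.Limits AlgebraicGeometry Opposite TopologicalSpace

noncomputable section

namespace Groth.Agent.CurvQuotLib

variable {k : Type u} [Field k] {X Y : Scheme.{u}} {G : Type u} [Group G] [Finite G]

theorem geometricallyConnected_quot {S : Scheme.{u}} (p : X ⟶ Y) [Surjective p] (q : Y ⟶ S)
    (h : GeometricallyConnected (p ≫ q)) : GeometricallyConnected q := by
  refine ⟨fun K _ y Z fst snd hZ => ?_⟩
  haveI : ConnectedSpace (pullback p fst : Scheme.{u}) := by
    refine h.geometrically_connectedSpace y (pullback.fst p fst) (pullback.snd p fst ≫ snd) ?_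
    exact (IsPullback.of_hasPullback p fst).flip.paste_horiz hZ.flip |>.flip
  exact (pullback.snd p fst).surjective.connectedSpace (pullback.snd p fst).continuous

theorem flat_of_dim_one [IsIntegral X] [IsIntegral Y] [IsLocallyNoetherian Y] (hdY : topologicalKrullDim Y = 1)
    (hY : Pi1.IsNormalScheme Y) (f : X ⟶ Y) [Surjective f] : Flat f := by
  refine Flat.iff_flat_stalkMap f |>.2 fun x => ?_
  haveI := (hY (f x)).1
  haveI := (hY (f x)).2
  haveI : Ring.KrullDimLE 1 (Y.presheaf.stalk (f x)) :=
    (Ring.krullDimLE_iff).2 ((FibreComp.ringKrullDim_stalk_le_topologicalKrullDim (f x)).trans hdY.le)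
  haveI : IsRegularLocalRing (Y.presheaf.stalk (f x)) := FinBirLib.isRegularLocalRing_of_normal_dimLE_one _
  haveI : Ring.DimensionLEOne (Y.presheaf.stalk (f x)) :=
    ⟨fun h hP => Ring.krullDimLE_one_iff_of_noZeroDivisors.1 inferInstance _ h hP⟩
  haveI : IsDedekindDomain (Y.presheaf.stalk (f x)) := { }
  algebraize [(f.stalkMap x).hom]
  show Module.Flat _ _
  refine IsDedekindDomain.flat_iff_torsion_eq_bot.2 (Submodule.eq_bot_iff _ |>.2 fun z hz => ?_)
  obtain ⟨⟨r, hr⟩, hrz⟩ := (Submodule.mem_torsion_iff z).1 hz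
  have h : (f.stalkMap x).hom r * z = 0 := hrz
  refine (mul_eq_zero.1 h).resolve_left fun h0 => nonZeroDivisors.ne_zero hr ?_
  exact GeomRedPtLib.stalkMap_injective_of_dominant f x (h0.trans (map_zero _).symm)

/-- The quotient of a smooth proper connected curve by a finite group acting faithfully. -/
theorem quot_curve (p : X ⟶ Spec (CommRingCat.of k)) [IsProper p] [Smooth p] [GeometricallyConnected p]
    (hX : topologicalKrullDim X = 1) (ρ : G →* Aut X) (hρ : Function.Injective ρ)
    (hρk : ∀ g : G, (ρ g).hom ≫ p = p)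
    (π : X ⟶ Y) (q : Y ⟶ Spec (CommRingCat.of k)) (hπ : π ≫ q = p) (hquot : SGA1.IsQuot ρ π) :
    IsProper q ∧ Smooth q ∧ GeometricallyConnected q ∧ topologicalKrullDim Y = 1 ∧
      IsFinite π ∧ Flat π ∧ ∀ y : Y, π.finrank y = Nat.card G := by
  subst hπ
  haveI : Subsingleton ↥(Spec (CommRingCat.of k)) := inferInstanceAs (Subsingleton (PrimeSpectrum k))
  haveI : ConnectedSpace X := GeometricallyConnected.connectedSpace_of_subsingleton (π ≫ q)
  letI : X.Over (Spec (CommRingCat.of k)) := ⟨π ≫ q⟩
  haveI : IsProper (X ↘ Spec (CommRingCat.of k)) := ‹IsProper (π ≫ q)›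
  haveI : Smooth (X ↘ Spec (CommRingCat.of k)) := ‹Smooth (π ≫ q)›
  haveI := CurveLib.isIntegral_of_smooth (X := X) k
  have hnX : Pi1.IsNormalScheme X :=
    AlterN1.isNormalScheme_of_regular X fun x => CurveLib.isRegularLocalRing_stalk_of_smooth (k := k) x
  haveI := isIntegral_quot hquot
  have hnY := isNormal_quot hquot hnX
  haveI : Surjective π := ⟨QuotLib.surjective hquot⟩
  haveI : IsFinite π := QuotLib.isFinite hquot q
  haveI : IsSeparated q := (QuotLib.isSeparated_iff hquot q).1 inferInstance
  haveI : UniversallyClosed q := UniversallyClosed.of_comp_surjective π q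
  haveI : QuasiCompact q := QuotLib.quasiCompact hquot q
  haveI : LocallyOfFiniteType q := QuotLib.locallyOfFiniteType hquot q
  haveI : IsLocallyNoetherian Y := LocallyOfFiniteType.isLocallyNoetherian q
  have hY : topologicalKrullDim Y = 1 := (GenSubLib.topologicalKrullDim_eq_of_finite_surjective π).symm.trans hX
  haveI : Flat π := flat_of_dim_one hY hnY π
  letI : Y.Over (Spec (CommRingCat.of k)) := ⟨q⟩
  haveI : IsSeparated (Y ↘ Spec (CommRingCat.of k)) := ‹IsSeparated q›
  haveI : LocallyOfFiniteType (Y ↘ Spec (CommRingCat.of k)) := ‹LocallyOfFiniteType q›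
  haveI : QuasiCompact (Y ↘ Spec (CommRingCat.of k)) := ‹QuasiCompact q›
  have hs : Smooth q := Groth.Agent.S6557.result k X Y hX hY π rfl hnY
  exact ⟨{}, hs, geometricallyConnected_quot π q inferInstance, hY, inferInstance, inferInstance,
    finrank_eq_card hquot (π ≫ q) hρ hρk⟩

end Groth.Agent.CurvQuotLib
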