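import Groth.Agent.CurvQuotLib.Curve
import Groth.Agent.FlatLocus.FibreCrit
import Groth.Agent.FlatLocus.SmoothFibres

/-! Quotients of families of smooth proper curves by finite groups. -/

set_option autoImplicit false
set_option backward.isDefEq.respectTransparency false
set_option backward.isDefEq.respectTransparency.types false
universe u
open CategoryTheory CategoryTheory.Limits AlgebraicGeometry Opposite TopologicalSpace

noncomputable section

namespace Groth.Agent.CurvQuotLib

variable {X Y S : Scheme.{u}} {G : Type u} [Group G] [Finite G]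

theorem exists_bcAut {T : Scheme.{u}} (ρ : G →* Aut X) (π : X ⟶ Y) (hinv : ∀ g, (ρ g).hom ≫ π = π) (t : T ⟶ Y) :
    ∃ ρ' : G →* Aut (pullback π t), ∀ g,
      (ρ' g).hom ≫ pullback.fst π t = pullback.fst π t ≫ (ρ g).hom ∧ (ρ' g).hom ≫ pullback.snd π t = pullback.snd π t := by
  let h : G → (pullback π t ⟶ pullback π t) := fun g =>
    pullback.lift (pullback.fst π t ≫ (ρ g).hom) (pullback.snd π t)
      (by rw [Category.assoc, hinv, pullback.condition])
  have hmul : ∀ g g', h g' ≫ h g = h (g * g') := fun g g' => by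
    apply pullback.hom_ext
    · simp only [h, Category.assoc, pullback.lift_fst, pullback.lift_fst_assoc]
      rw [show (ρ (g * g')).hom = (ρ g').hom ≫ (ρ g).hom by rw [map_mul]; rfl]
    · simp [h]
  have hone : h 1 = 𝟙 _ := by
    apply pullback.hom_ext
    · simp only [h, pullback.lift_fst, Category.id_comp]
      rw [show (ρ 1).hom = 𝟙 X by rw [map_one]; rfl, Category.comp_id]
    · simp [h]
  let e : G → Aut (pullback π t) := fun g =>
    { hom := h g, inv := h g⁻¹
      hom_inv_id := by rw [hmul, inv_mul_cancel, hone]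
      inv_hom_id := by rw [hmul, mul_inv_cancel, hone] }
  exact ⟨{ toFun := e, map_one' := Iso.ext hone, map_mul' := fun g g' => Iso.ext (hmul g g').symm },
    fun g => ⟨pullback.lift_fst _ _ _, pullback.lift_snd _ _ _⟩⟩

/-- The quotient of a family of smooth proper curves by a finite group of invertible order acting faithfully on
every fibre. -/
theorem quot_family (f : X ⟶ S) [IsProper f] [Smooth f] [GeometricallyConnected f]
    (hdim : ∀ s : S, topologicalKrullDim ↥(f.fiber s) = 1)
    (hG : IsUnit ((Nat.card G : ℕ) : Γ(S, ⊤))) (ρ : G →* Aut X)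
    (hfaith : ∀ (s : S) (a : G), a ≠ 1 → ∃ x : X, f x = s ∧ (ρ a).hom x ≠ x)
    (π : X ⟶ Y) (q : Y ⟶ S) (hπ : π ≫ q = f) (hquot : SGA1.IsQuot ρ π) :
    IsProper q ∧ Smooth q ∧ GeometricallyConnected q ∧ (∀ s : S, topologicalKrullDim ↥(q.fiber s) = 1) ∧
      IsFinite π ∧ Flat π ∧ LocallyOfFinitePresentation π ∧ ∀ y : Y, π.finrank y = Nat.card G := by
  subst hπ
  haveI : Surjective π := ⟨QuotLib.surjective hquot⟩
  haveI : IsFinite π := QuotLib.isFinite hquot q
  haveI : LocallyOfFinitePresentation q := locallyOfFinitePresentation hquot q hG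
  haveI : Flat q := flat hquot q hG
  haveI : IsSeparated q := (QuotLib.isSeparated_iff hquot q).1 inferInstance
  haveI : UniversallyClosed q := UniversallyClosed.of_comp_surjective π q
  have hGY : IsUnit ((Nat.card G : ℕ) : Γ(Y, ⊤)) := by
    have := hG.map q.appTop.hom
    rwa [map_natCast] at this
  have key : ∀ s : S, Smooth (q.fiberToSpecResidueField s) ∧ topologicalKrullDim ↥(q.fiber s) = 1 ∧
      Flat (pullback.snd π (q.fiberι s)) ∧
      ∀ w, (pullback.snd π (q.fiberι s)).finrank w = Nat.card G := fun s => by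
    obtain ⟨ρ', hρ'⟩ := exists_bcAut ρ π hquot.inv (q.fiberι s)
    have hquot' : SGA1.IsQuot ρ' (pullback.snd π (q.fiberι s)) :=
      QuotLib.isQuot_of_isPullback hquot (IsPullback.of_hasPullback π (q.fiberι s)) ρ'
        (fun a => (hρ' a).1) (fun a => (hρ' a).2) hGY
    let ps : pullback π (q.fiberι s) ⟶ Spec (S.residueField s) :=
      pullback.snd π (q.fiberι s) ≫ q.fiberToSpecResidueField s
    have hsq : IsPullback (pullback.fst π (q.fiberι s)) ps (π ≫ q) (S.fromSpecResidueField s) :=
      (IsPullback.of_hasPullback π (q.fiberι s)).paste_vert (IsPullback.of_hasPullback q (S.fromSpecResidueField s))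
    haveI : IsProper ps := MorphismProperty.of_isPullback hsq ‹IsProper (π ≫ q)›
    haveI : Smooth ps := MorphismProperty.of_isPullback hsq ‹Smooth (π ≫ q)›
    haveI : GeometricallyConnected ps := MorphismProperty.of_isPullback hsq ‹GeometricallyConnected (π ≫ q)›
    have hX : topologicalKrullDim ↥(pullback π (q.fiberι s)) = 1 :=
      (IsHomeomorph.topologicalKrullDim_eq _ hsq.isoPullback.hom.homeomorph.isHomeomorph).trans (hdim s)
    have hinj : Function.Injective ρ' := by
      rw [injective_iff_map_eq_one]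
      intro a ha
      by_contra hne
      obtain ⟨x, hx, hax⟩ := hfaith s a hne
      obtain ⟨w, hw⟩ : π x ∈ Set.range (q.fiberι s) := by rw [Scheme.Hom.range_fiberι]; exact hx
      obtain ⟨z, hz, -⟩ := Scheme.Pullback.exists_preimage_pullback (f := π) (g := q.fiberι s) x w hw.symm
      apply hax
      have h1 := (hρ' a).1
      rw [show (ρ' a).hom = 𝟙 _ by rw [ha]; rfl, Category.id_comp] at h1
      rw [← hz, ← Scheme.Hom.comp_apply, ← h1]
    obtain ⟨-, h2, -, h4, -, h6, h7⟩ := quot_curve (k := S.residueField s) ps hX ρ' hinj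
      (fun a => by rw [← Category.assoc, (hρ' a).2]) (pullback.snd π (q.fiberι s)) (q.fiberToSpecResidueField s) rfl hquot'
    exact ⟨h2, h4, h6, h7⟩
  haveI : Smooth q := Smooth.of_smooth_fiberToSpecResidueField q fun s => (key s).1
  have hflat : ∀ (s : S) (z : (π ≫ q).fiber s), (π.stalkMap ((π ≫ q).fiberι s z)).hom.Flat := fun s z => by
    haveI : Flat (MoreMor.fiberMap π q s) := by
      rw [← (FlatLocus.isPullback_fiberMap π q _).isoPullback_hom_snd]
      exact MorphismProperty.RespectsIso.precomp _ _ _ (key _).2.2.1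
    exact (FlatLocus.flat_stalkMap_of_fibre π q _ z (Flat.stalkMap (π ≫ q) _) (Flat.stalkMap _ z)).2
  haveI : Flat π := Flat.of_stalkMap π fun x => by
    obtain ⟨z, hz⟩ : x ∈ Set.range ((π ≫ q).fiberι ((π ≫ q) x)) := by
      rw [Scheme.Hom.range_fiberι]; exact rfl
    exact hz ▸ hflat _ z
  refine ⟨{}, inferInstance, geometricallyConnected_quot π q inferInstance, fun s => (key s).2.1,
    inferInstance, inferInstance, FlatLocus.locallyOfFinitePresentation_of_comp π q, fun y => ?_⟩
  obtain ⟨w, hw⟩ : y ∈ Set.range (q.fiberι (q y)) := by rw [Scheme.Hom.range_fiberι]; exact rfl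
  rw [← hw, ← Scheme.Hom.finrank_pullback_snd π (q.fiberι (q y)) w]
  exact (key (q y)).2.2.2 w

end Groth.Agent.CurvQuotLib
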