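import Groth.Agent.QuotLib.Props
import Groth.Agent.Codim1Iso.Scheme
import Groth.Prelude.Def_Pi1
import Mathlib.AlgebraicGeometry.Morphisms.FlatRank
import Mathlib.FieldTheory.Galois.IsGaloisGroup
import Mathlib.RingTheory.LocalProperties.IntegrallyClosed

/-! Quotients of integral schemes by faithful actions of finite groups. -/

set_option autoImplicit false
set_option backward.isDefEq.respectTransparency false
set_option backward.isDefEq.respectTransparency.types false
universe u
open CategoryTheory CategoryTheory.Limits AlgebraicGeometry Opposite TopologicalSpace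

noncomputable section

namespace Groth.Agent.CurvQuotLib

open QuotLib

variable {X Y S : Scheme.{u}} {G : Type u} [Group G] [Finite G] {ρ : G →* Aut X} {p : X ⟶ Y}

theorem isReduced_quot (hp : SGA1.IsQuot ρ p) [IsReduced X] : IsReduced Y :=
  ⟨fun V => isReduced_of_injective (p.app V).hom (hp.injective V)⟩

theorem irreducible_quot (hp : SGA1.IsQuot ρ p) [IrreducibleSpace X] : IrreducibleSpace Y :=
  Function.Surjective.irreducibleSpace p.continuous (QuotLib.surjective hp)

theorem isIntegral_quot (hp : SGA1.IsQuot ρ p) [IsIntegral X] : IsIntegral Y := by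
  haveI := isReduced_quot hp
  haveI := irreducible_quot hp
  exact isIntegral_of_irreducibleSpace_of_isReduced Y

theorem nonempty_preimage (hp : SGA1.IsQuot ρ p) {V : Y.Opens} {y : Y} (hy : y ∈ V) :
    Nonempty ↥(p ⁻¹ᵁ V) := by
  obtain ⟨x, rfl⟩ := QuotLib.surjective hp y
  exact ⟨⟨x, hy⟩⟩

theorem isIntegrallyClosed_sections [IsIntegral X] (hX : Pi1.IsNormalScheme X) {U : X.Opens} (hU : IsAffineOpen U)
    [Nonempty ↥U] [IsDomain Γ(X, U)] : IsIntegrallyClosed Γ(X, U) := by
  refine IsIntegrallyClosed.of_localization_maximal fun m _ => ?_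
  intro
  let x : U := ⟨hU.fromSpec ⟨m, inferInstance⟩, by
    have := Set.mem_range_self (f := hU.fromSpec) ⟨m, inferInstance⟩
    rwa [hU.range_fromSpec] at this⟩
  have hm : hU.primeIdealOf x = ⟨m, inferInstance⟩ :=
    hU.fromSpec.isOpenEmbedding.injective (hU.fromSpec_primeIdealOf x)
  letI := TopCat.Presheaf.algebra_section_stalk X.presheaf x
  haveI := hU.isLocalization_stalk x
  haveI : IsLocalization.AtPrime (X.presheaf.stalk x.1) m := by
    have h := hU.isLocalization_stalk x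
    simpa only [hm] using h
  haveI := (hX x.1).2
  exact IsIntegrallyClosed.of_equiv
    (IsLocalization.algEquiv m.primeCompl (X.presheaf.stalk x.1) (Localization.AtPrime m)).toRingEquiv

theorem isIntegrallyClosed_invariants {B A : Type u} [CommRing B] [CommRing A] [Algebra B A] [IsDomain A]
    [IsIntegrallyClosed A] [MulSemiringAction G A] [SMulCommClass G B A] [Algebra.IsInvariant B A G]
    (hinj : Function.Injective (algebraMap B A)) : IsIntegrallyClosed B := by
  haveI : IsDomain B := hinj.isDomain (algebraMap B A)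
  haveI : FaithfulSMul B A := (faithfulSMul_iff_algebraMap_injective B A).2 hinj
  rw [isIntegrallyClosed_iff (FractionRing B)]
  intro q hq
  obtain ⟨a, b, hb, rfl⟩ := IsFractionRing.div_surjective B q
  have hb0 : b ≠ 0 := nonZeroDivisors.ne_zero hb
  let L := FractionRing A
  letI : Algebra (FractionRing B) L := FractionRing.liftAlgebra B L
  have hq' : IsIntegral A ((algebraMap B L a) / algebraMap B L b) := by
    have := hq.algebraMap (B := L)
    rw [map_div₀, ← IsScalarTower.algebraMap_apply, ← IsScalarTower.algebraMap_apply] at this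
    exact this.tower_top
  obtain ⟨c, hc⟩ := IsIntegrallyClosed.algebraMap_eq_of_integral hq'
  have hbA : algebraMap B A b ≠ 0 := fun h => hb0 (hinj (h.trans (map_zero _).symm))
  have hcb : c * algebraMap B A b = algebraMap B A a := by
    apply IsFractionRing.injective A L
    rw [map_mul, hc, ← IsScalarTower.algebraMap_apply, ← IsScalarTower.algebraMap_apply,
      div_mul_cancel₀]
    rw [IsScalarTower.algebraMap_apply B A L]
    exact fun h => hbA (IsFractionRing.injective A L (h.trans (map_zero _).symm))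
  obtain ⟨d, hd⟩ := Algebra.IsInvariant.isInvariant (A := B) (G := G) c fun g => mul_right_cancel₀ hbA (by
    have := congrArg (fun z => g • z) hcb
    simp only [smul_mul', smul_algebraMap] at this
    exact this.trans hcb.symm)
  refine ⟨d, ?_⟩
  rw [eq_div_iff (fun h => hb0 (IsFractionRing.injective B (FractionRing B) (h.trans (map_zero _).symm))),
    ← map_mul]
  exact congrArg _ (hinj (by rw [map_mul, hd, hcb]))

theorem isNormal_quot (hp : SGA1.IsQuot ρ p) [IsIntegral X] (hX : Pi1.IsNormalScheme X) :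
    Pi1.IsNormalScheme Y := by
  haveI := isIntegral_quot hp
  haveI := hp.affine
  intro y
  obtain ⟨_, ⟨(V : Y.Opens), hV, rfl⟩, hy, -⟩ := Y.isBasis_affineOpens.exists_subset_of_mem_open (Set.mem_univ y) isOpen_univ
  haveI := nonempty_preimage hp hy
  haveI : Nonempty ↥V := ⟨⟨y, hy⟩⟩
  haveI : Nonempty ↥(Scheme.Opens.toScheme (p ⁻¹ᵁ V)) := ‹Nonempty ↥(p ⁻¹ᵁ V)›
  haveI : Nonempty ↥(Scheme.Opens.toScheme V) := ‹Nonempty ↥V›
  haveI : IsDomain Γ(X, p ⁻¹ᵁ V) := IsIntegral.component_integral _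
  haveI : IsDomain Γ(Y, V) := IsIntegral.component_integral _
  letI := QuotLib.algebra p V
  letI := QuotLib.action hp V
  haveI := QuotLib.isInvariant hp V
  haveI := QuotLib.smulCommClass hp V
  haveI := isIntegrallyClosed_sections hX (hV.preimage p)
  haveI : IsIntegrallyClosed Γ(Y, V) := isIntegrallyClosed_invariants (G := G) (A := Γ(X, p ⁻¹ᵁ V)) (hp.injective V)
  letI := TopCat.Presheaf.algebra_section_stalk Y.presheaf (⟨y, hy⟩ : V)
  haveI := hV.isLocalization_stalk ⟨y, hy⟩
  exact ⟨inferInstance, isIntegrallyClosed_of_isLocalization (Y.presheaf.stalk y)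
    (hV.primeIdealOf ⟨y, hy⟩).asIdeal.primeCompl (Ideal.primeCompl_le_nonZeroDivisors _)⟩

theorem eq_one_of_sect (hp : SGA1.IsQuot ρ p) [IsIntegral X] (f : X ⟶ S) [IsSeparated f]
    (hρ : Function.Injective ρ) (hρf : ∀ g, (ρ g).hom ≫ f = f) {V : Y.Opens} (hV : IsAffineOpen V)
    [Nonempty ↥(p ⁻¹ᵁ V)] (g : G) (h : ∀ s, sect hp V g s = s) : g = 1 := by
  haveI := hp.affine
  have hU := hV.preimage p
  have e : (ρ g).hom.appLE (p ⁻¹ᵁ V) (p ⁻¹ᵁ V) (SGA1.preimage_le_of_inv ρ p hp.inv g V) = 𝟙 _ :=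
    CommRingCat.hom_ext (RingHom.ext h)
  have h1 := IsAffineOpen.SpecMap_appLE_fromSpec (f := (ρ g).hom) hU hU (SGA1.preimage_le_of_inv ρ p hp.inv g V)
  rw [e, Spec.map_id, Category.id_comp] at h1
  haveI : IsDominant hU.fromSpec := by
    refine ⟨?_⟩
    rw [DenseRange, hU.range_fromSpec]
    exact (p ⁻¹ᵁ V).2.dense (Set.nonempty_coe_sort.1 ‹_›)
  have h2 : (ρ g).hom = 𝟙 X := ext_of_isDominant_of_isSeparated f (by rw [hρf, Category.id_comp]) hU.fromSpec
    (by rw [Category.comp_id, ← h1])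
  apply hρ
  rw [map_one]
  exact Iso.ext h2

theorem finrank_eq_card (hp : SGA1.IsQuot ρ p) [IsIntegral X] (f : X ⟶ S) [IsSeparated f]
    (hρ : Function.Injective ρ) (hρf : ∀ g, (ρ g).hom ≫ f = f) [IsFinite p] [Flat p] (y : Y) :
    p.finrank y = Nat.card G := by
  haveI := isIntegral_quot hp
  obtain ⟨_, ⟨(V : Y.Opens), hV, rfl⟩, hy, -⟩ := Y.isBasis_affineOpens.exists_subset_of_mem_open (Set.mem_univ y) isOpen_univ
  haveI := nonempty_preimage hp hy
  haveI : Nonempty ↥V := ⟨⟨y, hy⟩⟩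
  haveI : Nonempty ↥(Scheme.Opens.toScheme (p ⁻¹ᵁ V)) := ‹Nonempty ↥(p ⁻¹ᵁ V)›
  haveI : Nonempty ↥(Scheme.Opens.toScheme V) := ‹Nonempty ↥V›
  haveI : IsDomain Γ(X, p ⁻¹ᵁ V) := IsIntegral.component_integral _
  haveI : IsDomain Γ(Y, V) := IsIntegral.component_integral _
  letI := QuotLib.algebra p V
  letI := QuotLib.action hp V
  haveI := QuotLib.isInvariant hp V
  haveI := QuotLib.smulCommClass hp V
  haveI : Module.Finite Γ(Y, V) Γ(X, p ⁻¹ᵁ V) := IsFinite.finite_app p V hV
  haveI : Module.Flat Γ(Y, V) Γ(X, p ⁻¹ᵁ V) := by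
    have h := Flat.flat_appLE p hV (hV.preimage p) le_rfl
    rwa [Scheme.Hom.appLE_eq_app] at h
  haveI : FaithfulSMul Γ(Y, V) Γ(X, p ⁻¹ᵁ V) := (faithfulSMul_iff_algebraMap_injective _ _).2 (hp.injective V)
  haveI : FaithfulSMul G Γ(X, p ⁻¹ᵁ V) := ⟨fun {g h} e => by
    have hone : (g⁻¹ * h)⁻¹ = 1 := eq_one_of_sect hp f hρ hρf hV _ fun s => by
      show (g⁻¹ * h) • s = s
      rw [mul_smul, ← e, inv_smul_smul]
    rwa [inv_eq_one, inv_mul_eq_one] at hone⟩
  haveI : IsGaloisGroup G Γ(Y, V) Γ(X, p ⁻¹ᵁ V) := ⟨inferInstance, inferInstance, inferInstance⟩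
  rw [show y = hV.fromSpec (hV.primeIdealOf ⟨y, hy⟩) from (hV.fromSpec_primeIdealOf ⟨y, hy⟩).symm,
    ← Scheme.Hom.finrank_of_isPullback _ _ p hV.fromSpec (Codim1Iso.isPullback_fromSpec p hV)]
  refine (Scheme.Hom.finrank_SpecMap_algebraMap Γ(Y, V) Γ(X, p ⁻¹ᵁ V) _).trans ?_
  rw [← Ideal.finrank_fiber_eq_rankAtStalk (hV.primeIdealOf ⟨y, hy⟩).asIdeal, Ideal.finrank_fiber_eq_finrank,
    IsGaloisGroup.card_eq_finrank' G Γ(Y, V) Γ(X, p ⁻¹ᵁ V)]

end Groth.Agent.CurvQuotLib
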